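import Cfsg.Agent.H238.Base
import Cfsg.Prelude.Def_EvenType

/-!
# S3046, case B: the row (X) (helper271)
-/

set_option autoImplicit false

namespace Cfsg.Agent.H271.PU

open Subgroup Cfsg

universe u

/-- The row (X): `p` odd, `K` not of Lie type in characteristic `p`. -/
def OddRow : Prop :=
  ∀ (K : Type u) [Group K] [Finite K] [IsSimpleGroup K] (p : ℕ) [Fact p.Prime], p ≠ 2 → IsKnownSimple' K →
    ¬ IsChevSimple p K → H238.Loc p K → p ^ 4 ∣ Nat.card K →
      (∃ A : Subgroup K, IsElementaryAbelian p A ∧ p ^ 3 ≤ Nat.card A) →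
        (∀ T : Sylow p K, ∃ a ∈ (T : Subgroup K), ∃ b ∈ (T : Subgroup K), a * b ≠ b * a) →
          (p = 3 ∧ Spor.IsoMcL K) ∨ (p = 5 ∧ Spor.IsoLy K)

end Cfsg.Agent.H271.PU
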