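import Mathlib
import Cfsg.Prelude.Def_Solvable
import Cfsg.Prelude.Def_PLocal
import Cfsg.Prelude.Def_LocalEven
import Cfsg.Prelude.Def_LocalStructure
import Cfsg.Prelude.Def_AlmostLie

/-!
# S3046 (the P!-theorem): interface (helper271)

* `Hyp p S C Q P` : the hypotheses of S3046 (with `Z` substituted).
* `CaseB p S C Q P V W` : what is used in case B (`W = ⟨V^C⟩` abelian) by the rows.
-/

set_option autoImplicit false

namespace Cfsg.Agent.H271.PU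

open Subgroup Cfsg

variable {H : Type*} [Group H]

/-- the hypotheses of S3046, `Z = Ω₁(Z(S))` substituted -/
structure Hyp (p : ℕ) (S : Sylow p H) (C Q P : Subgroup H) : Prop where
  div : p ∣ Nat.card H
  kp : Cfsg.IsKpGroup p H
  loc : Cfsg.IsOfLocalCharacteristic p H
  Cloc : ∃ T : Subgroup H, IsPGroup p ↥T ∧ T ≠ ⊥ ∧ C = Subgroup.normalizer (T : Set H)
  Cmax : ∀ L : Subgroup H, (∃ T : Subgroup H, IsPGroup p ↥T ∧ T ≠ ⊥ ∧ L = Subgroup.normalizer (T : Set H)) → C ≤ L → L = C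
  NZ : Subgroup.normalizer ((Cfsg.omegaOne p ((S : Subgroup H) ⊓ Subgroup.centralizer ((S : Subgroup H) : Set H)) :
    Subgroup H) : Set H) ≤ C
  Qeq : Q = (Cfsg.pCore p ↥C).map C.subtype
  Quniq : ∀ x ∈ Q ⊓ Subgroup.centralizer (Q : Set H), x ≠ 1 → Subgroup.centralizer ({x} : Set H) ≤ C
  SP : (S : Subgroup H) ≤ P
  Pmin : Cfsg.IsPMinimal p ↥P
  Pchar : Subgroup.centralizer (((Cfsg.pCore p ↥P).map P.subtype : Subgroup H) : Set H) ≤ (Cfsg.pCore p ↥P).map P.subtype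
  PC : ¬ P ≤ C
  YM : ∀ M : Subgroup H, P ≤ M →
    Subgroup.centralizer (((Cfsg.pCore p ↥M).map M.subtype : Subgroup H) : Set H) ≤ (Cfsg.pCore p ↥M).map M.subtype →
      (∀ M' : Subgroup H, M ≤ M' →
        Subgroup.centralizer (((Cfsg.pCore p ↥M').map M'.subtype : Subgroup H) : Set H) ≤ (Cfsg.pCore p ↥M').map M'.subtype →
          M' = M) → Cfsg.largestPReducedOf p M ≤ Q

/-- The data of case B of S3046: `V = Y_P`, `W = ⟨V^C⟩` elementary abelian. Only these facts are used by the rows. -/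
structure CaseB (p : ℕ) (S : Sylow p H) (C Q P V W : Subgroup H) : Prop where
  loc : Cfsg.IsOfLocalCharacteristic p H
  Cloc : ∃ T : Subgroup H, IsPGroup p ↥T ∧ T ≠ ⊥ ∧ C = Subgroup.normalizer (T : Set H)
  Cmax : ∀ L : Subgroup H, (∃ T : Subgroup H, IsPGroup p ↥T ∧ T ≠ ⊥ ∧ L = Subgroup.normalizer (T : Set H)) → C ≤ L → L = C
  /-- `N_H(Ω₁ Z(S)) ≤ C` -/
  NZ : Subgroup.normalizer ((Cfsg.omegaOne p ((S : Subgroup H) ⊓ Subgroup.centralizer ((S : Subgroup H) : Set H)) :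
    Subgroup H) : Set H) ≤ C
  Qeq : Q = (Cfsg.pCore p ↥C).map C.subtype
  CQ : Subgroup.centralizer (Q : Set H) ≤ Q
  /-- `N_H(A) ≤ C` for `1 ≠ A ≤ Z(Q)` -/
  uniq : ∀ A : Subgroup H, A ≤ Q → A ≤ Subgroup.centralizer (Q : Set H) → A ≠ ⊥ → Subgroup.normalizer (A : Set H) ≤ C
  Quniq : ∀ x ∈ Q ⊓ Subgroup.centralizer (Q : Set H), x ≠ 1 → Subgroup.centralizer ({x} : Set H) ≤ C
  SC : (S : Subgroup H) ≤ C
  SP : (S : Subgroup H) ≤ P
  Pmin : Cfsg.IsPMinimal p ↥P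
  PC : ¬ P ≤ C
  Pchar : Subgroup.centralizer (((Cfsg.pCore p ↥P).map P.subtype : Subgroup H) : Set H) ≤ (Cfsg.pCore p ↥P).map P.subtype
  PV : P ≤ Subgroup.normalizer (V : Set H)
  ZV : Cfsg.omegaOne p ((S : Subgroup H) ⊓ Subgroup.centralizer ((S : Subgroup H) : Set H)) ≤ V
  VW : V ≤ W
  WQ : W ≤ Q
  CW : C ≤ Subgroup.normalizer (W : Set H)
  Welem : Cfsg.IsElementaryAbelian p W

end Cfsg.Agent.H271.PU
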