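import Cfsg.Agent.H271.PU.Row
import Cfsg.Agent.S0542

/-!
# S3046, case B: the row predicate `RowB` (helper271)

`RowB p G` is a property of the finite (simple) group `G`: for `z` of order `p` centralized by a Sylow `p`-subgroup and `A ∋ z`
elementary abelian of order at least `p ^ 3`, normal in `C_G(z)`: either `N_G(A)` is irreducible on `A`, or there is a
`p`-subgroup `E ≠ 1`, invariant under all automorphisms fixing `A`, whose normalizer is not contained in `N_G(A)`.

* `CaseB.rowB` : case B of S3046 is impossible if a normal subgroup `K` of order divisible by `p` satisfies `RowB p K`;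
* `rowB_of_card` : `RowB` if there is no `A`;
* `rowB_of_center` : it is enough to consider one element `z₀` if `Ω₁(Z(T)) = ⟨z₀⟩`;
* `RowB.congr` : invariance under isomorphisms.
-/

set_option autoImplicit false

namespace Cfsg.Agent.H271.PU

open Subgroup Cfsg
open Cfsg.Agent.H229

/-- `z` has order `p` and is centralized by a Sylow `p`-subgroup -/
def PCen (p : ℕ) {G : Type*} [Group G] (z : G) : Prop :=
  orderOf z = p ∧ ∃ T : Sylow p G, (T : Subgroup G) ≤ centralizer ({z} : Set G)

/-- the condition on a pair `(z, A)` -/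
def RowAt (p : ℕ) {G : Type*} [Group G] (z : G) : Prop :=
  ∀ A : Subgroup G, IsElementaryAbelian p A → z ∈ A → A ≤ centralizer ({z} : Set G) →
    centralizer ({z} : Set G) ≤ normalizer (A : Set G) → p ^ 3 ≤ Nat.card A →
      (∀ B : Subgroup G, B ≤ A → B ≠ ⊥ → normalizer (A : Set G) ≤ normalizer (B : Set G) → B = A) ∨
      (∃ E : Subgroup G, E ≠ ⊥ ∧ IsPGroup p E ∧ ¬ normalizer (E : Set G) ≤ normalizer (A : Set G) ∧
        ∀ α : MulAut G, A.map α.toMonoidHom = A → E.map α.toMonoidHom = E)

/-- the row predicate -/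
def RowB (p : ℕ) (G : Type*) [Group G] : Prop := ∀ z : G, PCen p z → RowAt p z

/-- no elementary abelian normal subgroups of `C_G(z)` of order at least `p ^ 3` containing `z` -/
theorem rowB_of_card {p : ℕ} {G : Type*} [Group G]
    (h : ∀ z : G, PCen p z → ∀ A : Subgroup G, IsElementaryAbelian p A → z ∈ A → A ≤ centralizer ({z} : Set G) →
      centralizer ({z} : Set G) ≤ normalizer (A : Set G) → Nat.card A < p ^ 3) : RowB p G :=
  fun z hz A h1 h2 h3 h4 h5 => absurd h5 (not_le_of_gt (h z hz A h1 h2 h3 h4))

section Transport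

variable {G G' : Type*} [Group G] [Group G']

theorem map_centralizer (e : G ≃* G') (z : G) :
    (centralizer ({z} : Set G)).map e.toMonoidHom = centralizer ({e z} : Set G') := by
  ext x
  constructor
  · rintro ⟨y, hy, rfl⟩
    rw [SetLike.mem_coe, mem_centralizer_singleton_iff] at hy
    rw [mem_centralizer_singleton_iff]
    change e y * e z = e z * e y
    rw [← map_mul, hy, map_mul]
  · intro hx
    rw [mem_centralizer_singleton_iff] at hx
    refine ⟨e.symm x, ?_, e.apply_symm_apply x⟩
    rw [SetLike.mem_coe, mem_centralizer_singleton_iff]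
    apply e.injective
    rw [map_mul, map_mul, e.apply_symm_apply]
    exact hx

theorem map_norm (e : G ≃* G') (A : Subgroup G) :
    (normalizer (A : Set G)).map e.toMonoidHom = normalizer ((A.map e.toMonoidHom : Subgroup G') : Set G') :=
  Subgroup.map_equiv_normalizer_eq A e

theorem ea_map_equiv (e : G ≃* G') {p : ℕ} {A : Subgroup G} (h : IsElementaryAbelian p A) :
    IsElementaryAbelian p (A.map e.toMonoidHom) := ea_map h _

theorem map_map_symm (e : G ≃* G') (A : Subgroup G) : (A.map e.toMonoidHom).map e.symm.toMonoidHom = A := by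
  rw [Subgroup.map_map]
  have : e.symm.toMonoidHom.comp e.toMonoidHom = MonoidHom.id G := by
    ext x
    exact e.symm_apply_apply x
  rw [this, Subgroup.map_id]

theorem RowAt.map {p : ℕ} {z : G} (h : RowAt p z) (e : G ≃* G') : RowAt p (e z) := by
  intro A hA hz hAc hN hcard
  set A' : Subgroup G := A.map e.symm.toMonoidHom with hA'
  have hAA : A'.map e.toMonoidHom = A := map_map_symm e.symm A
  have hinj : Function.Injective (Subgroup.map e.toMonoidHom) := Subgroup.map_injective e.injective
  have hle : ∀ {X Y : Subgroup G}, X.map e.toMonoidHom ≤ Y.map e.toMonoidHom ↔ X ≤ Y := by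
    intro X Y
    exact Subgroup.map_le_map_iff_of_injective e.injective
  have h1 := h A' (ea_map_equiv e.symm hA) ⟨e z, hz, e.symm_apply_apply z⟩
    (by rw [← hle, hAA, map_centralizer]; exact hAc)
    (by rw [← hle, map_centralizer, map_norm, hAA]; exact hN)
    (by
      rw [hA', Nat.card_congr (A.equivMapOfInjective e.symm.toMonoidHom e.symm.injective).symm.toEquiv]
      exact hcard)
  rcases h1 with h1 | ⟨E, hE, hEp, hEn, hEa⟩
  · left
    intro B hBA hB hBn
    set B' : Subgroup G := B.map e.symm.toMonoidHom with hB'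
    have hBB : B'.map e.toMonoidHom = B := map_map_symm e.symm B
    have h2 := h1 B' (by rw [← hle, hBB, hAA]; exact hBA) (by
      intro h0
      apply hB
      rw [← hBB, h0, Subgroup.map_bot]) (by rw [← hle, map_norm, map_norm, hBB, hAA]; exact hBn)
    rw [← hBB, ← hAA, h2]
  · right
    refine ⟨E.map e.toMonoidHom, ?_, hEp.map _, ?_, ?_⟩
    · intro h0
      apply hE
      rwa [Subgroup.map_eq_bot_iff_of_injective _ e.injective] at h0
    · rw [← map_norm, ← hAA, ← map_norm, hle]
      exact hEn
    · intro α hα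
      have h3 := hEa ((e.trans α).trans e.symm) (by
        rw [← hAA] at hα
        apply hinj
        rw [Subgroup.map_map] at hα ⊢
        rw [← hα]
        congr 1
        ext x
        exact e.apply_symm_apply _)
      have h4 := congrArg (Subgroup.map e.toMonoidHom) h3
      rw [Subgroup.map_map] at h4 ⊢
      rw [← h4]
      congr 1
      ext x
      exact (e.apply_symm_apply _).symm

theorem PCen.map [Finite G] {p : ℕ} [Fact p.Prime] {z : G} (h : PCen p z) (e : G ≃* G') : PCen p (e z) := by
  obtain ⟨h1, T, hT⟩ := h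
  have hs : Function.Surjective e.toMonoidHom := e.surjective
  refine ⟨by rw [MulEquiv.orderOf_eq, h1], T.mapSurjective hs, ?_⟩
  rw [Sylow.coe_mapSurjective, ← map_centralizer]
  exact Subgroup.map_mono hT

/-- invariance under isomorphisms -/
theorem RowB.congr [Finite G] {p : ℕ} [Fact p.Prime] (h : RowB p G) (e : G ≃* G') : RowB p G' := by
  have : Finite G' := Finite.of_equiv G e.toEquiv
  intro z hz
  have h1 := h (e.symm z) (hz.map e.symm)
  have h2 := h1.map e
  rwa [e.apply_symm_apply] at h2

end Transport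

/-- It is enough to consider one element `z₀` if `Ω₁(Z(T)) = ⟨z₀⟩`. -/
theorem rowB_of_center {p : ℕ} [Fact p.Prime] {G : Type*} [Group G] [Finite G] {T : Sylow p G} {z₀ : G}
    (hT : ∀ y ∈ (T : Subgroup G), (∀ t ∈ (T : Subgroup G), t * y = y * t) → y ^ p = 1 → y ∈ zpowers z₀)
    (hz₀ : orderOf z₀ = p) (h : RowAt p z₀) : RowB p G := by
  rintro z ⟨hz, T', hT'⟩
  obtain ⟨g, hg⟩ := MulAction.exists_smul_eq G T' T
  -- `z ∈ T'`
  have hzT : z ∈ (T' : Subgroup G) := by
    have h1 : (T' : Subgroup G) ≤ normalizer ((zpowers z : Subgroup G) : Set G) := by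
      refine hT'.trans ?_
      refine le_trans ?_ (Subgroup.centralizer_le_normalizer _)
      intro x hx
      rw [mem_centralizer_singleton_iff] at hx
      rw [mem_centralizer_iff]
      rintro y ⟨k, rfl⟩
      exact (((show Commute x z from hx).zpow_right k).eq).symm
    have h2 : IsPGroup p ↥(zpowers z) := IsPGroup.of_card (n := 1) (by rw [Nat.card_zpowers, hz, pow_one])
    have h3 : IsPGroup p ↥((T' : Subgroup G) ⊔ zpowers z : Subgroup G) := by
      rw [sup_comm]
      exact isPGroup_sup_of_norm h2 T'.isPGroup' h1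
    have h4 := T'.is_maximal' h3 le_sup_left
    rw [← h4]
    exact mem_sup_right (mem_zpowers z)
  have hgz : MulAut.conj g z ∈ zpowers z₀ := by
    apply hT
    · rw [← hg]
      have h1 := Subgroup.smul_mem_pointwise_smul _ (MulAut.conj g) (T' : Subgroup G) hzT
      rw [← Sylow.coe_subgroup_smul] at h1
      exact h1
    · intro t ht
      rw [← hg] at ht
      rw [Sylow.coe_subgroup_smul] at ht
      obtain ⟨t', ht', rfl⟩ := (Subgroup.mem_smul_pointwise_iff_exists _ _ _).1 ht
      have h1 := mem_centralizer_singleton_iff.1 (hT' ht')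
      change MulAut.conj g t' * MulAut.conj g z = MulAut.conj g z * MulAut.conj g t'
      rw [← map_mul, h1, map_mul]
    · rw [← map_pow, ← hz, pow_orderOf_eq_one, map_one]
  have ho : orderOf (MulAut.conj g z) = p := by rw [MulEquiv.orderOf_eq, hz]
  have heq : zpowers (MulAut.conj g z) = zpowers z₀ := by
    apply Subgroup.eq_of_le_of_card_ge (zpowers_le.2 hgz)
    rw [Nat.card_zpowers, Nat.card_zpowers, ho, hz₀]
  have hcent : centralizer ({MulAut.conj g z} : Set G) = centralizer ({z₀} : Set G) := by
    have key : ∀ {a b : G}, a ∈ zpowers b → centralizer ({b} : Set G) ≤ centralizer ({a} : Set G) := by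
      rintro _ b ⟨k, rfl⟩ x hx
      rw [mem_centralizer_singleton_iff] at hx ⊢
      exact ((show Commute x b from hx).zpow_right k).eq
    refine le_antisymm (key ?_) (key hgz)
    rw [heq]
    exact mem_zpowers z₀
  have h1 : RowAt p (MulAut.conj g z) := by
    intro A hA hzA hAc hN hcard
    rw [hcent] at hAc hN
    refine h A hA ?_ hAc hN hcard
    have h2 : z₀ ∈ zpowers (MulAut.conj g z) := by
      rw [heq]
      exact mem_zpowers z₀
    exact (zpowers_le.2 hzA) h2
  have h2 := h1.map (MulAut.conj g).symm
  rwa [MulEquiv.symm_apply_apply] at h2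

variable {H : Type*} [Group H] [Finite H] {p : ℕ} [Fact p.Prime] {S : Sylow p H} {C Q P V W K : Subgroup H}

/-- the normalizer of a subgroup of the normal subgroup `K` -/
theorem subgroupOf_normalizer_le (hK : K.Normal) {A B : Subgroup H} (hA : A ≤ K) (hB : B ≤ K)
    (h : normalizer (A : Set H) ≤ normalizer (B : Set H)) :
    normalizer ((A.subgroupOf K : Subgroup K) : Set K) ≤ normalizer ((B.subgroupOf K : Subgroup K) : Set K) := by
  intro x hx
  have h1 : (x : H) ∈ normalizer (A : Set H) := by
    rw [mem_normalizer_iff] at hx ⊢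
    intro a
    constructor
    · intro ha
      exact mem_subgroupOf.1 ((hx ⟨a, hA ha⟩).1 (mem_subgroupOf.2 ha))
    · intro ha
      have haK : a ∈ K := by
        have h2 := hK.conj_mem _ (hA ha) (x : H)⁻¹
        simpa [mul_assoc] using h2
      exact mem_subgroupOf.1 ((hx ⟨a, haK⟩).2 (mem_subgroupOf.2 ha))
  have h2 := h h1
  rw [mem_normalizer_iff] at h2 ⊢
  intro b
  rw [mem_subgroupOf, mem_subgroupOf]
  exact h2 b

theorem subgroupOf_inj {A B : Subgroup H} (hA : A ≤ K) (hB : B ≤ K) (h : A.subgroupOf K = B.subgroupOf K) : A = B := by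
  have h1 := congrArg (Subgroup.map K.subtype) h
  rwa [subgroupOf_map_subtype, subgroupOf_map_subtype, inf_eq_left.2 hA, inf_eq_left.2 hB] at h1

/-- **The row lemma.** -/
theorem CaseB.rowB (h : CaseB p S C Q P V W) (hK : K.Normal) (hp : p ∣ Nat.card K) (hrow : RowB p ↥K) : False := by
  have hpr : p.Prime := Fact.out
  obtain ⟨z, hzK, hzZ, hz1⟩ := exists_z S hK hp
  have hzo : orderOf z = p := orderOf_eq_prime (mem_om.1 hzZ).2.2 hz1
  have hW₁ : (W ⊓ K).subgroupOf K = W.subgroupOf K := by
    ext x
    simp [mem_subgroupOf]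
  obtain ⟨hcN, hWc⟩ := h.centralizer_le_norm_W₁ hK hzZ hz1
  have hrow1 := hrow ⟨z, hzK⟩ ⟨by rw [Subgroup.orderOf_mk, hzo], by
    obtain ⟨R, hR⟩ := S0542.result p K hK.isSubnormal S
    refine ⟨R, ?_⟩
    rw [hR]
    intro x hx
    rw [mem_centralizer_singleton_iff]
    exact Subtype.ext ((mem_om.1 hzZ).2.1 x (mem_subgroupOf.1 hx))⟩
  have hcent : ∀ x : K, x ∈ centralizer ({(⟨z, hzK⟩ : K)} : Set K) → (x : H) ∈ centralizer ({z} : Set H) := by
    intro x hx
    rw [mem_centralizer_singleton_iff] at hx ⊢
    exact congrArg Subtype.val hx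
  have hnorm : ∀ x : K, (x : H) ∈ normalizer ((W ⊓ K : Subgroup H) : Set H) →
      x ∈ normalizer (((W ⊓ K).subgroupOf K : Subgroup K) : Set K) := by
    intro x hx
    rw [mem_normalizer_iff] at hx ⊢
    intro b
    rw [mem_subgroupOf, mem_subgroupOf]
    exact hx b
  have hrow2 := hrow1 ((W ⊓ K).subgroupOf K) (by
      refine ea_of_comm ?_ ?_
      · intro a ha b hb
        exact Subtype.ext (ea_comm h.Welem (mem_subgroupOf.1 ha).1 (mem_subgroupOf.1 hb).1)
      · intro a ha
        exact Subtype.ext (h.Welem.2 _ (mem_subgroupOf.1 ha).1))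
    (mem_subgroupOf.2 ⟨h.VW (h.ZV hzZ), hzK⟩)
    (by
      intro x hx
      rw [mem_centralizer_singleton_iff]
      have h1 := hWc (mem_subgroupOf.1 hx)
      rw [mem_centralizer_singleton_iff] at h1
      exact Subtype.ext h1)
    (fun x hx => hnorm x (hcN (hcent x hx)))
    (by
      rw [Nat.card_congr (subgroupOfEquivOfLe (show W ⊓ K ≤ K from inf_le_right)).toEquiv]
      exact h.card_W₁ hK hp)
  rcases hrow2 with h2 | ⟨E, hE, hEp, hEn, hEa⟩
  · refine h.not_irr hK hp fun B hB hB1 hBn => ?_
    have hBK : B ≤ K := hB.trans inf_le_right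
    refine subgroupOf_inj hBK inf_le_right (h2 _ ?_ ?_ ?_)
    · intro x hx
      exact mem_subgroupOf.2 (hB (mem_subgroupOf.1 hx))
    · intro h0
      apply hB1
      rw [subgroupOf_eq_bot, disjoint_iff, inf_eq_left.2 hBK] at h0
      exact h0
    · refine subgroupOf_normalizer_le hK inf_le_right hBK ?_
      rw [h.norm_W₁ hK hp]
      exact hBn
  · apply hEn
    have hEH : E.map K.subtype ≤ K := map_subtype_le _
    have hEE : (E.map K.subtype).subgroupOf K = E := by
      rw [Subgroup.subgroupOf, Subgroup.comap_map_eq_self_of_injective K.subtype_injective]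
    have hC : C ≤ normalizer ((E.map K.subtype : Subgroup H) : Set H) := by
      intro c hc
      have h3 : ((W ⊓ K).subgroupOf K).map (MulAut.conjNormal c).toMonoidHom = (W ⊓ K).subgroupOf K := by
        have hcW := h.C_norm_W₁ hK hc
        ext x
        constructor
        · rintro ⟨y, hy, rfl⟩
          rw [mem_subgroupOf]
          have h4 := ((mem_normalizer_iff.1 hcW) y).1 (mem_subgroupOf.1 hy)
          simpa using h4
        · intro hx
          refine ⟨(MulAut.conjNormal c)⁻¹ x, ?_, ?_⟩
          · rw [SetLike.mem_coe, mem_subgroupOf]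
            have h4 := ((mem_normalizer_iff.1 (inv_mem hcW)) x).1 (mem_subgroupOf.1 hx)
            rw [← map_inv]
            simpa using h4
          · change (MulAut.conjNormal c) ((MulAut.conjNormal c)⁻¹ x) = x
            rw [← MulAut.mul_apply, mul_inv_cancel, MulAut.one_apply]
      have h5 := hEa _ h3
      have key : ∀ c : H, E.map (MulAut.conjNormal c : MulAut K).toMonoidHom = E → ∀ e ∈ E.map K.subtype,
          c * e * c⁻¹ ∈ E.map K.subtype := by
        rintro c h5 _ ⟨e, he, rfl⟩
        refine ⟨MulAut.conjNormal c e, ?_, by simp⟩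
        rw [← h5]
        exact mem_map_of_mem _ he
      have h6 : E.map (MulAut.conjNormal c⁻¹ : MulAut K).toMonoidHom = E := by
        nth_rw 1 [← h5]
        rw [Subgroup.map_map]
        have h7 : (MulAut.conjNormal c⁻¹ : MulAut K).toMonoidHom.comp (MulAut.conjNormal c : MulAut K).toMonoidHom =
            MonoidHom.id K := by
          ext x
          simp [mul_assoc]
        rw [h7, Subgroup.map_id]
      rw [mem_normalizer_iff]
      intro e
      refine ⟨key c h5 e, fun he => ?_⟩
      have h8 := key c⁻¹ h6 _ he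
      simpa [mul_assoc] using h8
    have hne : E.map K.subtype ≠ ⊥ := by
      intro h0
      apply hE
      rwa [Subgroup.map_eq_bot_iff_of_injective _ K.subtype_injective] at h0
    have h9 := h.norm_eq (hEp.map _) hne hC
    have h10 := subgroupOf_normalizer_le hK hEH (show W ⊓ K ≤ K from inf_le_right) (by rw [h9, h.norm_W₁ hK hp])
    rwa [hEE] at h10

end Cfsg.Agent.H271.PU
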