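import Cfsg.Agent.H271.PU.LocK
import Cfsg.Agent.H271.PU.OddRow
import Cfsg.Agent.H271.PU.RowB
import Cfsg.Agent.H46.CharTwoList
import Cfsg.Agent.KFacts.RgdLieCharP
import Cfsg.Agent.NotResT.SmallTwo
import Cfsg.Agent.SmallSimple.S1000.PSLFacts
import Cfsg.Agent.H17.PU.Mathieu
import Cfsg.Agent.H17.PU.MathieuSmall
import Cfsg.Agent.H538.PU.J3J4
import Cfsg.Agent.H282.P1.U43
import Cfsg.Agent.H736.PU.G23
import Cfsg.Agent.H23.PU.Co2
import Cfsg.Agent.H23.PU.McL
import Cfsg.Agent.H23.PU.Ly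
import Cfsg.Agent.H338.PU.Th
import Cfsg.Agent.H338.Out.RankOne
import Cfsg.Agent.H331.P1.LieRow

/-!
# S3046, case B: assembly (helper271)

`endB` : in case B (`W = ⟨V^C⟩` abelian) `p = 2` and `F*(H)` is `²F₄(q)` or the Tits group.
-/

set_option autoImplicit false

namespace Cfsg.Agent.H271.PU

open Subgroup Cfsg
open Cfsg.Agent.H229

universe u

theorem rank_congr {G G' : Type*} [Group G] [Group G'] {p k : ℕ} (e : G ≃* G') (h : PRankLE p k G') :
    PRankLE p k G := by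
  intro A hA hAp
  rw [← Subgroup.card_map_of_injective (f := e.toMonoidHom) e.injective]
  refine h _ ⟨⟨?_⟩⟩ ?_
  · rintro ⟨_, a, ha, rfl⟩ ⟨_, b, hb, rfl⟩
    apply Subtype.ext
    show e a * e b = e b * e a
    rw [← map_mul, ← map_mul]
    exact congrArg e (congrArg Subtype.val (hA.is_comm.comm (⟨a, ha⟩ : A) ⟨b, hb⟩))
  · rintro _ ⟨a, ha, rfl⟩
    show e a ^ p = 1
    rw [← map_pow, hAp a ha, map_one]

variable {H : Type u} [Group H] [Finite H] {p : ℕ} [Fact p.Prime] {S : Sylow p H} {C Q P V W K : Subgroup H}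

/-- an elementary abelian subgroup of `K` of order at least `p ^ 3` -/
theorem CaseB.exists_ea (h : CaseB p S C Q P V W) (hK : K.Normal) (hp : p ∣ Nat.card K) :
    ∃ A : Subgroup K, IsElementaryAbelian p A ∧ p ^ 3 ≤ Nat.card A := by
  obtain ⟨A, hAK, hA, hc⟩ := h.rank hK hp
  refine ⟨A.subgroupOf K, ?_, ?_⟩
  · refine ea_of_comm ?_ ?_
    · intro a ha b hb
      exact Subtype.ext (ea_comm hA (mem_subgroupOf.1 ha) (mem_subgroupOf.1 hb))
    · intro a ha
      exact Subtype.ext (hA.2 _ (mem_subgroupOf.1 ha))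
  · rwa [Nat.card_congr (subgroupOfEquivOfLe hAK).toEquiv]

theorem CaseB.not_pRankLE (h : CaseB p S C Q P V W) (hK : K.Normal) (hp : p ∣ Nat.card K) : ¬ PRankLE p 2 ↥K := by
  intro hr
  obtain ⟨A, hA, hc⟩ := h.exists_ea hK hp
  have h1 := hr A hA.1 hA.2
  have h2 := (Nat.pow_le_pow_iff_right (Fact.out : p.Prime).one_lt).1 (hc.trans h1)
  omega

/-- the Sylow subgroups of `K` are not abelian -/
theorem CaseB.sylow_not_comm (h : CaseB p S C Q P V W) (hK : K.Normal) (hp : p ∣ Nat.card K) (T : Sylow p K) :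
    ∃ a ∈ (T : Subgroup K), ∃ b ∈ (T : Subgroup K), a * b ≠ b * a := by
  by_contra hcon
  push Not at hcon
  refine h.not_abelian hK hp ?_
  obtain ⟨R, hR⟩ := S0542.result p K hK.isSubnormal S
  obtain ⟨g, hg⟩ := MulAction.exists_smul_eq K T R
  have key : ∀ a : H, (ha : a ∈ (S : Subgroup H) ⊓ K) → ∃ a' ∈ (T : Subgroup K), (g : H) * a' * (g : H)⁻¹ = a := by
    intro a ha
    have h1 : (⟨a, ha.2⟩ : K) ∈ (R : Subgroup K) := by
      rw [hR]
      exact mem_subgroupOf.2 ha.1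
    rw [← hg, Sylow.coe_subgroup_smul] at h1
    obtain ⟨a', ha', h2⟩ := (Subgroup.mem_smul_pointwise_iff_exists _ _ _).1 h1
    exact ⟨a', ha', congrArg Subtype.val h2⟩
  intro a ha b hb
  obtain ⟨a', ha', rfl⟩ := key a ha
  obtain ⟨b', hb', rfl⟩ := key b hb
  have h3 : (a' : H) * b' = b' * a' := congrArg Subtype.val (hcon a' ha' b' hb')
  calc (g : H) * a' * (g : H)⁻¹ * ((g : H) * b' * (g : H)⁻¹) = g * (a' * b') * (g : H)⁻¹ := by group
    _ = g * (b' * a') * (g : H)⁻¹ := by rw [h3]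
    _ = _ := by group

/-- `p ^ 4` divides the order of `K` -/
theorem CaseB.pow_four_dvd (h : CaseB p S C Q P V W) (hK : K.Normal) (hp : p ∣ Nat.card K) : p ^ 4 ∣ Nat.card K := by
  obtain ⟨A, hA, hc⟩ := h.exists_ea hK hp
  obtain ⟨T, hT⟩ := (ea_isPGroup hA).exists_le_sylow
  obtain ⟨a, ha, b, hb, hab⟩ := h.sylow_not_comm hK hp T
  obtain ⟨k, hk⟩ := IsPGroup.iff_card.1 (ea_isPGroup hA)
  obtain ⟨l, hl⟩ := IsPGroup.iff_card.1 T.isPGroup'
  have hpr : p.Prime := Fact.out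
  rw [hk] at hc
  have hk3 := (Nat.pow_le_pow_iff_right hpr.one_lt).1 hc
  have hlt : A < (T : Subgroup K) := by
    refine lt_of_le_of_ne hT fun h0 => hab ?_
    rw [← h0] at ha hb
    exact ea_comm hA ha hb
  have h1 : k < l := by
    rw [← Nat.pow_lt_pow_iff_right hpr.one_lt, ← hk, ← hl]
    exact Set.ncard_lt_ncard (show ((_ : Subgroup K) : Set K) ⊂ (_ : Set K) from hlt) (Set.toFinite _)
  have h2 : p ^ l ∣ Nat.card K := by
    rw [← hl]
    exact Subgroup.card_subgroup_dvd_card _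
  exact (pow_dvd_pow p (by omega)).trans h2

/-- **Assembly of case B.** -/
theorem endB (hkn : ∀ (X : Type u) [Group X] [Finite X] [IsSimpleGroup X], IsKnownSimple' X) (hodd : OddRow.{u})
    (h : CaseB p S C Q P V W) : p = 2 ∧ ∃ K : Subgroup H, K.Normal ∧ IsSimpleGroup K ∧ ¬ IsMulCommutative K ∧
      centralizer (K : Set H) = ⊥ ∧ (Lie.Iso2F4 ↥K ∨ Lie.IsoTits ↥K) := by
  obtain ⟨K, hK, hs, hna, hp, hC⟩ := h.exists_simple
  have hr := h.not_pRankLE hK hp
  have hna' : ∃ a b : K, a * b ≠ b * a := by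
    by_contra hcon
    push Not at hcon
    exact hna ⟨⟨hcon⟩⟩
  by_cases hch : IsChevSimple p ↥K
  · rcases hch with hch | ⟨rfl, hch⟩ | ⟨rfl, F, _, _, hF, ⟨e⟩⟩
    · have hlie : ∀ hL : KFacts.RgdLieCharP.IsLieFilt p ↥K, False := fun hL =>
        H331.P1.caseB_false_lie h hK hs hna' hp hL
      rcases hch with hch | hch | hch | hch | hch | hch | hch | hch | ⟨rfl, hch⟩ | ⟨rfl, hch⟩ | ⟨rfl, hch⟩
      · exact (hlie (Or.inl hch)).elim
      · exact (hlie (Or.inr (Or.inl hch))).elim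
      · exact (hlie (Or.inr (Or.inr (Or.inl hch)))).elim
      · exact (hlie (Or.inr (Or.inr (Or.inr (Or.inl hch))))).elim
      · exact (hlie (Or.inr (Or.inr (Or.inr (Or.inr (Or.inl hch)))))).elim
      · exact (hlie (Or.inr (Or.inr (Or.inr (Or.inr (Or.inr (Or.inl hch))))))).elim
      · exact (hlie (Or.inr (Or.inr (Or.inr (Or.inr (Or.inr (Or.inr (Or.inl hch)))))))).elim
      · exact (hlie (Or.inr (Or.inr (Or.inr (Or.inr (Or.inr (Or.inr (Or.inr hch)))))))).elim
      · exact (H338.Out.caseB_false_suzuki h hK hp hch).elim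
      · exact ⟨rfl, K, hK, hs, hna, hC, Or.inl hch⟩
      · exact (H338.Out.caseB_false_ree h hK hp hch).elim
    · rcases hch with ⟨⟨e⟩⟩ | ⟨F, _, _, hF, ⟨e⟩⟩ | hch
      · exact (hr (rank_congr e NotResT.SmallTwo.prank_alt_six)).elim
      · exact (hr (rank_congr e (NotResT.TwoRank.prank_psu_three (by rw [hF]; norm_num) (by decide)))).elim
      · exact ⟨rfl, K, hK, hs, hna, hC, Or.inr hch⟩
    · exfalso
      obtain ⟨A, hA, hc⟩ := h.exists_ea hK hp
      obtain ⟨k, hk⟩ := IsPGroup.iff_card.1 (ea_isPGroup hA)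
      rw [hk] at hc
      have hk3 := (Nat.pow_le_pow_iff_right (by norm_num)).1 hc
      have h1 : 3 ^ k ∣ 504 := by
        rw [← hk, ← SmallSimple.PSLFacts.card_psl_two_eight hF, ← Nat.card_congr e.toEquiv]
        exact Subgroup.card_subgroup_dvd_card A
      exact absurd ((pow_dvd_pow 3 hk3).trans h1) (by norm_num)
  · by_cases hp2 : p = 2
    · subst hp2
      exfalso
      rcases H46.charTwoList hkn hna (charTwoType_of_normal h.loc hK hp) hr with h1 | h1
      · exact hch h1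
      · rcases h1 with h1 | h1 | h1 | h1 | h1 | h1 | h1 | h1 | h1
        · exact h.rowB hK hp (H282.P1.rowB_u43 h1)
        · exact h.rowB hK hp (H736.PU.G23.rowB_g23 h1)
        · exact h.rowB hK hp (H17.PU.MathieuSmall.rowB_m22 h1)
        · exact h.rowB hK hp (H17.PU.MathieuSmall.rowB_m23 h1)
        · exact h.rowB hK hp (H17.PU.Mathieu.rowB_m24 h1)
        · exact h.rowB hK hp (H538.PU.rowB_j3 h1)
        · exact h.rowB hK hp (H538.PU.rowB_j4 h1)
        · exact h.rowB hK hp (H23.PU.Co2.rowB_co2 h1)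
        · exact h.rowB hK hp (H338.PU.rowB_th h1)
    · exfalso
      rcases hodd ↥K p hp2 (hkn ↥K) hch (h.loc_K hK) (h.pow_four_dvd hK hp) (h.exists_ea hK hp)
        (h.sylow_not_comm hK hp) with ⟨rfl, h1⟩ | ⟨rfl, h1⟩
      · exact h.rowB hK hp (H23.PU.McL.rowB_mcl h1)
      · exact h.rowB hK hp (H23.PU.Ly.rowB_ly h1)

end Cfsg.Agent.H271.PU
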