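import Cfsg.Agent.H271.PU.Red
import Cfsg.Agent.H239.CharPLocal

/-!
# Local characteristic `p` for normal subgroups (helper271)
-/

set_option autoImplicit false

namespace Cfsg.Agent.H271.PU

open Subgroup Cfsg
open Cfsg.Agent.H229
open Cfsg.Agent.H239.CharPLocal (CP)

universe u

variable {H : Type u} [Group H] [Finite H] {p : ℕ} [Fact p.Prime] {K : Subgroup H}

/-- local characteristic `p` passes to normal subgroups of order divisible by `p` -/
theorem local_of_normal (hloc : IsOfLocalCharacteristic p H) (hK : K.Normal) (hp : p ∣ Nat.card K) :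
    IsOfLocalCharacteristic p ↥K := by
  refine ⟨hp, fun T hT hT1 => ?_⟩
  have hT1' : T.map K.subtype ≠ ⊥ := by
    intro h0
    apply hT1
    rwa [Subgroup.map_eq_bot_iff_of_injective _ K.subtype_injective] at h0
  have h1 : CP p ↥(normalizer ((T.map K.subtype : Subgroup H) : Set H)) := hloc.2 _ (hT.map _) hT1'
  have h2 : (K.subgroupOf (normalizer ((T.map K.subtype : Subgroup H) : Set H))).Normal := inferInstance
  have h3 := h1.normal (K.subgroupOf (normalizer ((T.map K.subtype : Subgroup H) : Set H)))
  have e1 : (K.subgroupOf (normalizer ((T.map K.subtype : Subgroup H) : Set H))).map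
      (normalizer ((T.map K.subtype : Subgroup H) : Set H)).subtype = (normalizer (T : Set K)).map K.subtype := by
    rw [subgroupOf_map_subtype]
    ext x
    constructor
    · rintro ⟨hxK, hxN⟩
      refine ⟨⟨x, hxK⟩, ?_, rfl⟩
      rw [SetLike.mem_coe, mem_normalizer_iff] at *
      intro t
      have h4 := hxN (t : H)
      constructor
      · intro ht
        obtain ⟨t', ht', h5⟩ := h4.1 ⟨t, ht, rfl⟩
        have h6 : t' = ⟨x, hxK⟩ * t * (⟨x, hxK⟩ : K)⁻¹ := Subtype.ext h5
        rwa [← h6]
      · intro ht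
        obtain ⟨t', ht', h5⟩ := h4.2 ⟨_, ht, rfl⟩
        have h6 : t' = t := Subtype.ext h5
        rwa [← h6]
    · rintro ⟨y, hy, rfl⟩
      refine ⟨y.2, ?_⟩
      rw [SetLike.mem_coe, mem_normalizer_iff] at *
      intro t
      constructor
      · rintro ⟨t', ht', rfl⟩
        exact ⟨y * t' * y⁻¹, (hy t').1 ht', rfl⟩
      · rintro ⟨t', ht', h5⟩
        refine ⟨y⁻¹ * t' * y, ?_, ?_⟩
        · rw [SetLike.mem_coe, hy]
          simpa [mul_assoc] using ht'
        · have h6 : (t' : H) = y * t * (y : H)⁻¹ := h5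
          change (y : H)⁻¹ * (t' : H) * y = t
          rw [h6]
          group
  have e2 := (K.subgroupOf (normalizer ((T.map K.subtype : Subgroup H) : Set H))).equivMapOfInjective _
    (normalizer ((T.map K.subtype : Subgroup H) : Set H)).subtype_injective
  have e3 := (normalizer (T : Set K)).equivMapOfInjective _ K.subtype_injective
  exact (h3.of_equiv e2).of_equiv ((MulEquiv.subgroupCongr e1).trans e3.symm)

/-- the case `p = 2` -/
theorem charTwoType_of_normal {H : Type u} [Group H] [Finite H] {K : Subgroup H} (hloc : IsOfLocalCharacteristic 2 H)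
    (hK : K.Normal) (hp : 2 ∣ Nat.card K) : IsCharacteristicTwoType ↥K := by
  have : Fact (Nat.Prime 2) := ⟨Nat.prime_two⟩
  have h1 := local_of_normal hloc hK hp
  exact ⟨(even_iff_two_dvd).2 h1.1, h1.2⟩

end Cfsg.Agent.H271.PU
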