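import Cfsg.Agent.H271.PU.Row
import Cfsg.Agent.H226.ParRed
import Cfsg.Agent.H239.LocRed
import Cfsg.Agent.H245.Red
import Cfsg.Agent.Lib.MinNormal
import Cfsg.Agent.Lib.CoprimeHyperplane

/-!
# S3046, case B: `F*(H)` is simple (helper271)
-/

set_option autoImplicit false

namespace Cfsg.Agent.H271.PU

open Subgroup Cfsg
open Cfsg.Agent.H229

universe u

variable {H : Type u} [Group H] [Finite H] {p : ℕ} [Fact p.Prime] {S : Sylow p H} {C Q P V W K : Subgroup H}

/-- a non-abelian simple group is not a `p`-group -/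
theorem not_isPGroup_of_simple {T : Type*} [Group T] [Finite T] (hs : IsSimpleGroup T) (hna : ¬ IsMulCommutative T)
    (hp : IsPGroup p T) : False := by
  have : Nontrivial T := hs.toNontrivial
  have h1 : Nontrivial (center T) := hp.center_nontrivial
  rcases (inferInstance : (center T).Normal).eq_bot_or_eq_top with h2 | h2
  · exact (Subgroup.nontrivial_iff_ne_bot _).1 h1 h2
  · apply hna
    refine ⟨⟨fun a b => ?_⟩⟩
    have h3 : b ∈ center T := h2 ▸ mem_top b
    exact (mem_center_iff.1 h3 a)

/-- a group of characteristic `p` has no non-abelian simple normal subgroup -/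
theorem no_simple_normal {X T : Subgroup H} (hX : ChP p X) (hTX : T ≤ X) (hn : X ≤ normalizer (T : Set H))
    (hs : IsSimpleGroup T) (hna : ¬ IsMulCommutative T) : False := by
  have hD := isPGroup_pCoreOf p X
  have h1 : T ≤ normalizer ((T ⊓ pCoreOf p X : Subgroup H) : Set H) := by
    refine le_trans ?_ (norm_inf_le _ _)
    exact le_inf le_normalizer (hTX.trans (le_norm_pCoreOf p X))
  rcases H245.Red.simple_cases hs inf_le_left h1 with h2 | h2
  · have h3 : T ≤ centralizer (pCoreOf p X : Set H) := by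
      intro t ht
      rw [mem_centralizer_iff]
      intro d hd
      have h4 : d * t * d⁻¹ * t⁻¹ ∈ T ⊓ pCoreOf p X := by
        refine ⟨?_, ?_⟩
        · exact T.mul_mem (((mem_normalizer_iff.1 (hn (pCoreOf_le p X hd))) t).1 ht) (T.inv_mem ht)
        · rw [show d * t * d⁻¹ * t⁻¹ = d * (t * d⁻¹ * t⁻¹) by group]
          exact (pCoreOf p X).mul_mem hd (((mem_normalizer_iff.1 (le_norm_pCoreOf p X (hTX ht))) _).1
            ((pCoreOf p X).inv_mem hd))
      rw [h2, mem_bot, mul_inv_eq_one, mul_inv_eq_iff_eq_mul] at h4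
      exact h4
    have h5 : T ≤ T ⊓ pCoreOf p X := le_inf le_rfl ((le_inf hTX h3).trans hX)
    rw [h2, le_bot_iff] at h5
    have := hs.toNontrivial
    exact (Subgroup.nontrivial_iff_ne_bot T).1 inferInstance h5
  · exact not_isPGroup_of_simple hs hna (hD.to_le (inf_eq_left.1 h2))

/-- centralizers of elements of order `p` in a group of local characteristic `p` -/
theorem chP_centralizer (hloc : IsOfLocalCharacteristic p H) {x : H} (hx : orderOf x = p) :
    ChP p (centralizer ({x} : Set H)) :=
  chP_iff.2 (H226.ParRed.cp_centralizer_of_local hloc hx)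

/-- nontrivial elements of an elementary abelian group have order `p` -/
theorem orderOf_of_ea {A : Subgroup H} (hA : IsElementaryAbelian p A) {a : H} (ha : a ∈ A) (h1 : a ≠ 1) :
    orderOf a = p := orderOf_eq_prime (hA.2 a ha) h1

namespace CaseB

variable (h : CaseB p S C Q P V W)
include h

theorem dvd : p ∣ Nat.card H := h.loc.1

/-- `O_p(H) = 1` -/
theorem no_normal_p {N : Subgroup H} (hN : N.Normal) (hp : IsPGroup p N) : N = ⊥ := by
  by_contra hne
  have h1 := h.norm_eq hp hne (by rw [normalizer_eq_top_iff.2 hN]; exact le_top)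
  rw [normalizer_eq_top_iff.2 hN] at h1
  exact h.PC (h1 ▸ le_top)

theorem card_V : p ^ 2 ≤ Nat.card V := by
  have hpr : p.Prime := Fact.out
  have htop : (⊤ : Subgroup H).Normal := inferInstance
  have hd : p ∣ Nat.card (⊤ : Subgroup H) := by
    rw [Nat.card_congr (topEquiv (G := H)).toEquiv]
    exact h.dvd
  have h1 := h.lt_V₁ htop hd
  have h2 := h.Z₁_ne htop hd
  rw [inf_top_eq] at h1 h2
  rw [inf_top_eq] at h1
  have hZp : IsPGroup p ↥(omegaOne p ((S : Subgroup H) ⊓ centralizer ((S : Subgroup H) : Set H))) :=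
    h.Q_isPGroup.to_le h.ZQ
  have hVp : IsPGroup p ↥V := h.Q_isPGroup.to_le h.VQ
  obtain ⟨a, ha⟩ := IsPGroup.iff_card.1 hZp
  obtain ⟨b, hb⟩ := IsPGroup.iff_card.1 hVp
  have h0 : a ≠ 0 := by
    rintro rfl
    rw [pow_zero] at ha
    exact h2 (Subgroup.card_eq_one.1 ha)
  have h3 : a < b := by
    rw [← Nat.pow_lt_pow_iff_right hpr.one_lt, ← ha, ← hb]
    exact Set.ncard_lt_ncard (show ((_ : Subgroup H) : Set H) ⊂ (_ : Set H) from h1) (Set.toFinite _)
  rw [hb]
  exact Nat.pow_le_pow_right hpr.pos (by omega)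

/-- `O_{p'}(H) = 1` -/
theorem no_normal_p' {N : Subgroup H} (hN : N.Normal) (hp : ¬ p ∣ Nat.card N) : N = ⊥ := by
  have hpr : p.Prime := Fact.out
  have hVe : IsElementaryAbelian p V := ea_mono h.Welem h.VW
  have hV := h.card_V
  have hV1 : V ≠ ⊥ := by
    rintro rfl
    rw [Subgroup.card_bot] at hV
    exact absurd (hpr.one_lt.trans_le ((Nat.le_self_pow two_ne_zero p).trans hV)) (lt_irrefl 1)
  have h1 := Lib.CoprimeHyperplane.iSup_centralizer_hyperplane hVe hV1 hp (by
    rw [normalizer_eq_top_iff.2 hN]; exact le_top)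
  rw [eq_bot_iff, ← h1]
  refine iSup_le fun B => ?_
  obtain ⟨B, hBV, hB⟩ := B
  have hB1 : B ≠ ⊥ := by
    rintro rfl
    rw [relIndex_bot_left] at hB
    rw [hB, pow_two] at hV
    exact absurd hV (not_le_of_gt (by nlinarith [hpr.one_lt]))
  obtain ⟨b, hb, hb1⟩ : ∃ b ∈ B, b ≠ 1 := by
    by_contra hcon
    push Not at hcon
    exact hB1 (eq_bot_iff.2 fun b hb => mem_bot.2 (hcon b hb))
  have h2 := H226.ParRed.inf_centralizer_eq_bot hN hp
    (H226.ParRed.cp_centralizer_of_local h.loc (orderOf_of_ea hVe (hBV hb) hb1))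
  rw [← h2]
  exact inf_le_inf_left _ (centralizer_le (by simpa using hb))

/-- **`F*(H)` is simple.** -/
theorem exists_simple : ∃ K : Subgroup H, K.Normal ∧ IsSimpleGroup K ∧ ¬ IsMulCommutative K ∧ p ∣ Nat.card K ∧
    centralizer (K : Set H) = ⊥ := by
  have hpr : p.Prime := Fact.out
  have : Nontrivial H := by
    by_contra hnt
    rw [not_nontrivial_iff_subsingleton] at hnt
    have := h.dvd
    rw [Nat.card_of_subsingleton (1 : H)] at this
    exact hpr.one_lt.ne' (Nat.dvd_one.1 this)
  obtain ⟨N, hN, hN0, hmin⟩ := H245.Red.exists_min (G := H)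
  have hpN : p ∣ Nat.card N := by
    by_contra hp
    exact hN0 (h.no_normal_p' hN hp)
  obtain ⟨m, T, hm, hTN, hTs, hTn, hconj, hcomm, hinj, hind, hsup⟩ :=
    Lib.MinNormal.exists_internal_decomposition N hN0 hmin
  have hcard : ∀ i, Nat.card (T i) = Nat.card (T ⟨0, hm⟩) := by
    intro i
    obtain ⟨g, hg⟩ := hconj ⟨0, hm⟩ i
    rw [hg]
    exact card_map_of_injective (MulAut.conj g).injective
  have hcN : Nat.card N = Nat.card (T ⟨0, hm⟩) ^ m := by
    obtain ⟨e⟩ := Lib.MinNormal.mulEquiv_pi_of_iSupIndep T (fun i j hij x y hx hy => hcomm i j hij x hx y hy)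
      hind hsup
    rw [Nat.card_congr e.toEquiv, Nat.card_pi, Finset.prod_congr rfl (fun i _ => hcard i), Finset.prod_const,
      Finset.card_univ, Fintype.card_fin]
  have hpT : ∀ i, p ∣ Nat.card (T i) := by
    intro i
    rw [hcard]
    rw [hcN] at hpN
    exact hpr.dvd_of_dvd_pow hpN
  have hna : ∀ i, ¬ IsMulCommutative (T i) := by
    intro i hc
    have h1 : (Nat.card (T i)).Prime := by
      have := hTs i
      have : IsMulCommutative (T i) := hc
      letI : CommGroup (T i) := { (inferInstance : Group (T i)) with mul_comm := hc.is_comm.comm }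
      exact IsSimpleGroup.prime_card
    have h2 : Nat.card (T i) = p := ((Nat.prime_dvd_prime_iff_eq hpr h1).1 (hpT i)).symm
    rw [hcard] at h2
    rw [h2] at hcN
    exact hN0 (h.no_normal_p hN (IsPGroup.of_card hcN))
  have hm1 : m = 1 := by
    by_contra hne
    have hne2 : (⟨0, hm⟩ : Fin m) ≠ ⟨1, by omega⟩ := by
      intro h
      have := congrArg Fin.val h
      simp at this
    obtain ⟨x, hx⟩ := exists_prime_orderOf_dvd_card' p (hpT ⟨0, hm⟩)
    have hx' : orderOf (x : H) = p := by rw [Subgroup.orderOf_coe, hx]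
    have h1 : ChP p (centralizer ({(x : H)} : Set H) ⊓ N) := by
      refine (chP_centralizer h.loc hx').normal inf_le_left ?_
      refine le_trans ?_ (norm_inf_le _ _)
      exact le_inf le_normalizer (le_top.trans (normalizer_eq_top_iff.2 hN).ge)
    refine no_simple_normal h1 (T := T ⟨1, by omega⟩) ?_ (inf_le_right.trans (hTn _)) (hTs _) (hna _)
    refine le_inf ?_ (hTN _)
    intro t ht
    rw [mem_centralizer_singleton_iff]
    exact (hcomm _ _ hne2 x x.2 t ht).eq.symm
  subst hm1
  have hNT : N = T ⟨0, hm⟩ := by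
    rw [← hsup]
    apply le_antisymm
    · exact iSup_le fun i => by rw [Subsingleton.elim i ⟨0, hm⟩]
    · exact le_iSup T _
  have hNs : IsSimpleGroup N := by rw [hNT]; exact hTs _
  have hNna : ¬ IsMulCommutative N := by rw [hNT]; exact hna _
  refine ⟨N, hN, hNs, hNna, hpN, ?_⟩
  by_contra hC0
  have hCn : (centralizer (N : Set H)).Normal := inferInstance
  have hpC : p ∣ Nat.card (centralizer (N : Set H)) := by
    by_contra hp
    exact hC0 (h.no_normal_p' hCn hp)
  obtain ⟨y, hy⟩ := exists_prime_orderOf_dvd_card' p hpC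
  have hy' : orderOf (y : H) = p := by rw [Subgroup.orderOf_coe, hy]
  refine no_simple_normal (chP_centralizer h.loc hy') (T := N) ?_ ?_ hNs hNna
  · intro n hn
    rw [mem_centralizer_singleton_iff]
    exact mem_centralizer_iff.1 y.2 n hn
  · rw [normalizer_eq_top_iff.2 hN]
    exact le_top

/-- elements of order `p` of `K` have centralizers of characteristic `p` -/
theorem loc_K (hK : K.Normal) : H238.Loc p ↥K :=
  H239.LocRed.loc_sub (H239.LocRed.loc_of_local h.loc) hK

end CaseB

end Cfsg.Agent.H271.PU
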