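import Cfsg.Agent.H271.PU.Iface
import Cfsg.Agent.H229.PRed
import Cfsg.Agent.H777.PGrp

/-!
# S3046, case B: general row lemmas (helper271)

`K` is a normal subgroup of `H` of order divisible by `p`, `Z₁ = Z ∩ K`, `V₁ = V ∩ K`, `W₁ = W ∩ K`.
-/

set_option autoImplicit false

namespace Cfsg.Agent.H271.PU

open Subgroup Cfsg
open Cfsg.Agent.H229

variable {H : Type*} [Group H] [Finite H] {p : ℕ} [Fact p.Prime] {S : Sylow p H} {C Q P V W K : Subgroup H}

/-- the elements of `Ω₁(Z(S))` -/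
theorem mem_om {S : Sylow p H} {x : H} :
    x ∈ omegaOne p ((S : Subgroup H) ⊓ centralizer ((S : Subgroup H) : Set H)) ↔
      x ∈ (S : Subgroup H) ∧ (∀ s ∈ (S : Subgroup H), s * x = x * s) ∧ x ^ p = 1 := by
  constructor
  · intro hx
    unfold omegaOne at hx
    have h1 : x ∈ zOmega p (S : Subgroup H) := by
      refine (closure_le (K := zOmega p (S : Subgroup H))).2 ?_ hx
      rintro y ⟨⟨hy1, hy2⟩, hy3⟩
      exact ⟨hy1, hy2, hy3⟩
    exact ⟨h1.1, fun s hs => mem_centralizer_iff.1 h1.2.1 s hs, h1.2.2⟩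
  · rintro ⟨h1, h2, h3⟩
    exact subset_closure ⟨⟨h1, mem_centralizer_iff.2 h2⟩, h3⟩

/-- a normal subgroup of order divisible by `p` meets `Ω₁(Z(S))` -/
theorem exists_z (S : Sylow p H) (hK : K.Normal) (hp : p ∣ Nat.card K) :
    ∃ z ∈ K, z ∈ omegaOne p ((S : Subgroup H) ⊓ centralizer ((S : Subgroup H) : Set H)) ∧ z ≠ 1 := by
  obtain ⟨x, hx⟩ := exists_prime_orderOf_dvd_card' p hp
  have hx' : orderOf (x : H) = p := by rw [Subgroup.orderOf_coe, hx]
  have hxp : IsPGroup p ↥(zpowers (x : H)) := IsPGroup.of_card (n := 1) (by rw [Nat.card_zpowers, hx', pow_one])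
  obtain ⟨R, hR⟩ := hxp.exists_le_sylow
  obtain ⟨g, hg⟩ := MulAction.exists_smul_eq H R S
  have hgx : g * x * g⁻¹ ∈ (S : Subgroup H) := by
    rw [← hg]
    have h1 := Subgroup.smul_mem_pointwise_smul _ (MulAut.conj g) (R : Subgroup H) (hR (mem_zpowers (x : H)))
    rw [← Sylow.coe_subgroup_smul] at h1
    exact h1
  have hne : K.subgroupOf (S : Subgroup H) ≠ ⊥ := by
    intro h
    have h1 : (⟨g * x * g⁻¹, hgx⟩ : ↥(S : Subgroup H)) ∈ K.subgroupOf (S : Subgroup H) := by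
      rw [mem_subgroupOf]
      exact hK.conj_mem x x.2 g
    rw [h, mem_bot] at h1
    have h2 : g * x * g⁻¹ = 1 := congrArg Subtype.val h1
    have h3 : (x : H) = 1 := by
      rw [mul_inv_eq_one] at h2
      exact mul_eq_left.1 h2
    rw [h3, orderOf_one] at hx'
    exact (Fact.out : p.Prime).one_lt.ne hx'
  obtain ⟨b, hb, hb1, hbc⟩ := H777.PGrp.inf_center_ne_bot S.isPGroup' hne inferInstance
  obtain ⟨k, hk⟩ := IsPGroup.iff_orderOf.1 S.isPGroup' b
  have hk0 : k ≠ 0 := by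
    rintro rfl
    rw [pow_zero, orderOf_eq_one_iff] at hk
    exact hb1 hk
  obtain ⟨j, rfl⟩ := Nat.exists_eq_succ_of_ne_zero hk0
  have hbp : (b ^ p ^ j) ^ p = 1 := by
    rw [← pow_mul, ← pow_succ, ← Nat.succ_eq_add_one, ← hk]
    exact pow_orderOf_eq_one b
  refine ⟨((b ^ p ^ j : ↥(S : Subgroup H)) : H), ?_, ?_, ?_⟩
  · exact mem_subgroupOf.1 (pow_mem hb _)
  · rw [mem_om]
    refine ⟨(b ^ p ^ j).2, fun s hs => ?_, ?_⟩
    · have h1 := Commute.pow_right (show Commute (⟨s, hs⟩ : ↥(S : Subgroup H)) b from hbc ⟨s, hs⟩) (p ^ j)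
      exact congrArg Subtype.val h1.eq
    · have := congrArg Subtype.val hbp
      simpa using this
  · intro h
    have h1 : b ^ p ^ j = 1 := Subtype.ext h
    have h2 := orderOf_dvd_of_pow_eq_one h1
    rw [hk] at h2
    have h3 := (Nat.pow_dvd_pow_iff_le_right (Fact.out : p.Prime).one_lt).1 h2
    exact absurd h3 (by simp)

namespace CaseB

variable (h : CaseB p S C Q P V W)
include h

theorem Qeq' : Q = pCoreOf p C := h.Qeq

theorem Q_isPGroup : IsPGroup p ↥Q := by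
  rw [h.Qeq']
  exact isPGroup_pCoreOf p C

theorem CQn : C ≤ normalizer (Q : Set H) := by
  rw [h.Qeq']
  exact le_norm_pCoreOf p C

theorem QC : Q ≤ C := by
  rw [h.Qeq']
  exact pCoreOf_le p C

theorem QS : Q ≤ (S : Subgroup H) := by
  have hs : (normalizer (Q : Set H)) ≥ (S : Subgroup H) := h.SC.trans h.CQn
  have h1 : IsPGroup p ↥((S : Subgroup H) ⊔ Q : Subgroup H) := by
    rw [sup_comm]
    exact isPGroup_sup_of_norm h.Q_isPGroup S.isPGroup' hs
  have h2 := S.is_maximal' h1 le_sup_left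
  exact le_sup_right.trans h2.le

/-- `C` is the normalizer of each nontrivial `p`-subgroup it normalizes -/
theorem norm_eq {A : Subgroup H} (hA : IsPGroup p ↥A) (hne : A ≠ ⊥) (hC : C ≤ normalizer (A : Set H)) :
    normalizer (A : Set H) = C := h.Cmax _ ⟨A, hA, hne, rfl⟩ hC

theorem VQ : V ≤ Q := h.VW.trans h.WQ

theorem ZQ : omegaOne p ((S : Subgroup H) ⊓ centralizer ((S : Subgroup H) : Set H)) ≤ Q := h.ZV.trans h.VQ

theorem ZCQ : omegaOne p ((S : Subgroup H) ⊓ centralizer ((S : Subgroup H) : Set H)) ≤ centralizer (Q : Set H) := by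
  intro x hx
  rw [mem_om] at hx
  rw [mem_centralizer_iff]
  exact fun q hq => hx.2.1 q (h.QS hq)

/-- no nontrivial subgroup of `Z(Q)` is normalized by `P` -/
theorem not_P_le {A : Subgroup H} (hA : A ≤ Q) (hAc : A ≤ centralizer (Q : Set H)) (hne : A ≠ ⊥) :
    ¬ P ≤ normalizer (A : Set H) := fun hP => h.PC (hP.trans (h.uniq A hA hAc hne))

section
variable (hK : K.Normal)
include hK

theorem P_norm_V₁ : P ≤ normalizer ((V ⊓ K : Subgroup H) : Set H) := by
  refine le_trans ?_ (norm_inf_le _ _)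
  exact le_inf h.PV (le_top.trans (normalizer_eq_top_iff.2 hK).ge)

theorem C_norm_W₁ : C ≤ normalizer ((W ⊓ K : Subgroup H) : Set H) := by
  refine le_trans ?_ (norm_inf_le _ _)
  exact le_inf h.CW (le_top.trans (normalizer_eq_top_iff.2 hK).ge)

theorem W₁_isPGroup : IsPGroup p ↥(W ⊓ K : Subgroup H) := (ea_isPGroup h.Welem).to_le inf_le_left

variable (hp : p ∣ Nat.card K)
include hp

theorem Z₁_ne : omegaOne p ((S : Subgroup H) ⊓ centralizer ((S : Subgroup H) : Set H)) ⊓ K ≠ ⊥ := by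
  obtain ⟨z, hz, hz1, hz2⟩ := exists_z S hK hp
  intro h0
  exact hz2 (mem_bot.1 (h0 ▸ ⟨hz1, hz⟩))

theorem V₁_ne : V ⊓ K ≠ ⊥ := by
  intro h0
  refine h.Z₁_ne hK hp (le_bot_iff.1 ?_)
  rw [← h0]
  exact inf_le_inf_right K h.ZV

theorem W₁_ne : W ⊓ K ≠ ⊥ := by
  intro h0
  refine h.V₁_ne hK hp (le_bot_iff.1 ?_)
  rw [← h0]
  exact inf_le_inf_right K h.VW

theorem norm_W₁ : normalizer ((W ⊓ K : Subgroup H) : Set H) = C :=
  h.norm_eq (h.W₁_isPGroup hK) (h.W₁_ne hK hp) (h.C_norm_W₁ hK)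

/-- `V₁` is not contained in `Z(Q)` -/
theorem V₁_not_le : ¬ V ⊓ K ≤ centralizer (Q : Set H) := fun h0 =>
  h.not_P_le (inf_le_left.trans h.VQ) h0 (h.V₁_ne hK hp) (h.P_norm_V₁ hK)

theorem lt_V₁ : omegaOne p ((S : Subgroup H) ⊓ centralizer ((S : Subgroup H) : Set H)) ⊓ K < V ⊓ K := by
  refine lt_of_le_of_ne (inf_le_inf_right K h.ZV) fun h0 => h.V₁_not_le hK hp ?_
  rw [← h0]
  exact inf_le_left.trans h.ZCQ

theorem V₁_lt : V ⊓ K < W ⊓ K := by
  refine lt_of_le_of_ne (inf_le_inf_right K h.VW) fun h0 => h.PC ?_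
  have h1 := h.P_norm_V₁ hK
  rwa [h0, h.norm_W₁ hK hp] at h1

theorem card_W₁ : p ^ 3 ≤ Nat.card ↥(W ⊓ K : Subgroup H) := by
  have hpr : p.Prime := Fact.out
  have hZp : IsPGroup p ↥(omegaOne p ((S : Subgroup H) ⊓ centralizer ((S : Subgroup H) : Set H)) ⊓ K : Subgroup H) :=
    h.Q_isPGroup.to_le (inf_le_left.trans h.ZQ)
  have hVp : IsPGroup p ↥(V ⊓ K : Subgroup H) := h.Q_isPGroup.to_le (inf_le_left.trans h.VQ)
  obtain ⟨a, ha⟩ := IsPGroup.iff_card.1 hZp
  obtain ⟨b, hb⟩ := IsPGroup.iff_card.1 hVp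
  obtain ⟨c, hc⟩ := IsPGroup.iff_card.1 (h.W₁_isPGroup hK)
  have h0 : a ≠ 0 := by
    rintro rfl
    rw [pow_zero] at ha
    exact h.Z₁_ne hK hp (Subgroup.card_eq_one.1 ha)
  have h1 : a < b := by
    rw [← Nat.pow_lt_pow_iff_right hpr.one_lt, ← ha, ← hb]
    exact Set.ncard_lt_ncard (show ((_ : Subgroup H) : Set H) ⊂ (_ : Set H) from h.lt_V₁ hK hp) (Set.toFinite _)
  have h2 : b < c := by
    rw [← Nat.pow_lt_pow_iff_right hpr.one_lt, ← hb, ← hc]
    exact Set.ncard_lt_ncard (show ((_ : Subgroup H) : Set H) ⊂ (_ : Set H) from h.V₁_lt hK hp) (Set.toFinite _)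
  rw [hc]
  exact Nat.pow_le_pow_right hpr.pos (by omega)

/-- **G0.** the `p`-rank of `K` is at least 3 -/
theorem rank : ∃ A : Subgroup H, A ≤ K ∧ IsElementaryAbelian p A ∧ p ^ 3 ≤ Nat.card A :=
  ⟨W ⊓ K, inf_le_right, ea_mono h.Welem inf_le_left, h.card_W₁ hK hp⟩

/-- `C_K(Q ∩ K) ≤ Q ∩ K` -/
theorem cent_QK : K ⊓ centralizer ((Q ⊓ K : Subgroup H) : Set H) ≤ Q ⊓ K := by
  have hKC : C ≤ normalizer ((C ⊓ K : Subgroup H) : Set H) := by
    refine le_trans ?_ (norm_inf_le _ _)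
    exact le_inf le_normalizer (le_top.trans (normalizer_eq_top_iff.2 hK).ge)
  have hcp : ChP p C := by
    unfold ChP
    rw [← h.Qeq']
    exact inf_le_right.trans h.CQ
  have h1 : ChP p (C ⊓ K) := hcp.normal inf_le_left hKC
  have h2 : pCoreOf p (C ⊓ K) = Q ⊓ K := by
    apply le_antisymm
    · refine le_inf ?_ ((pCoreOf_le _ _).trans inf_le_right)
      rw [h.Qeq']
      exact pCoreOf_le_pCoreOf inf_le_left hKC
    · refine le_pCoreOf (inf_le_inf_right K h.QC) ?_ (h.Q_isPGroup.to_le inf_le_left)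
      refine le_trans ?_ (norm_inf_le _ _)
      exact le_inf (inf_le_left.trans h.CQn) (le_top.trans (normalizer_eq_top_iff.2 hK).ge)
  unfold ChP at h1
  rw [h2] at h1
  intro x hx
  refine h1 ⟨⟨?_, hx.1⟩, hx.2⟩
  refine h.uniq _ (inf_le_left.trans h.ZQ) (inf_le_left.trans h.ZCQ) (h.Z₁_ne hK hp) ?_
  refine centralizer_le_normalizer _ ?_
  exact centralizer_le (show (_ : Set H) ⊆ _ from inf_le_inf_right K h.ZQ) hx.2

end

/-- `C_{P ∩ K}(D ∩ K) ≤ D ∩ K`, `D = O_p(P)` -/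
theorem cent_DK (hK : K.Normal) :
    P ⊓ K ⊓ centralizer ((pCoreOf p P ⊓ K : Subgroup H) : Set H) ≤ pCoreOf p P ⊓ K := by
  have hKC : P ≤ normalizer ((P ⊓ K : Subgroup H) : Set H) := by
    refine le_trans ?_ (norm_inf_le _ _)
    exact le_inf le_normalizer (le_top.trans (normalizer_eq_top_iff.2 hK).ge)
  have hcp : ChP p P := by
    unfold ChP
    exact inf_le_right.trans h.Pchar
  have h1 : ChP p (P ⊓ K) := hcp.normal inf_le_left hKC
  have h2 : pCoreOf p (P ⊓ K) = pCoreOf p P ⊓ K := by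
    apply le_antisymm
    · exact le_inf (pCoreOf_le_pCoreOf inf_le_left hKC) ((pCoreOf_le _ _).trans inf_le_right)
    · refine le_pCoreOf (inf_le_inf_right K (pCoreOf_le _ _)) ?_ ((isPGroup_pCoreOf p P).to_le inf_le_left)
      refine le_trans ?_ (norm_inf_le _ _)
      exact le_inf (inf_le_left.trans (le_norm_pCoreOf p P)) (le_top.trans (normalizer_eq_top_iff.2 hK).ge)
  unfold ChP at h1
  rwa [h2] at h1

/-- if `S ∩ K` is normalized by `C` and `P` then contradiction -/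
theorem not_both (hK : K.Normal) (hp : p ∣ Nat.card K) (hC : C ≤ normalizer (((S : Subgroup H) ⊓ K : Subgroup H) : Set H))
    (hP : P ≤ normalizer (((S : Subgroup H) ⊓ K : Subgroup H) : Set H)) : False := by
  have hne : (S : Subgroup H) ⊓ K ≠ ⊥ := by
    intro h0
    refine h.Z₁_ne hK hp (le_bot_iff.1 ?_)
    rw [← h0]
    exact inf_le_inf_right K (h.ZQ.trans h.QS)
  have h1 := h.norm_eq (S.isPGroup'.to_le inf_le_left) hne hC
  exact h.PC (hP.trans h1.le)

/-- **G1.** the Sylow `p`-subgroup `S ∩ K` of `K` is not abelian -/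
theorem not_abelian (hK : K.Normal) (hp : p ∣ Nat.card K)
    (hab : ∀ a ∈ (S : Subgroup H) ⊓ K, ∀ b ∈ (S : Subgroup H) ⊓ K, a * b = b * a) : False := by
  have h1 : (S : Subgroup H) ⊓ K = Q ⊓ K := by
    apply le_antisymm
    · intro x hx
      refine h.cent_QK hK hp ⟨hx.2, mem_centralizer_iff.2 fun y hy => hab y ⟨h.QS hy.1, hy.2⟩ x hx⟩
    · exact inf_le_inf_right K h.QS
  have hDS : pCoreOf p P ≤ (S : Subgroup H) := by
    have h2 : IsPGroup p ↥((S : Subgroup H) ⊔ pCoreOf p P : Subgroup H) := by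
      rw [sup_comm]
      exact isPGroup_sup_of_norm (isPGroup_pCoreOf p P) S.isPGroup' (h.SP.trans (le_norm_pCoreOf p P))
    exact le_sup_right.trans (S.is_maximal' h2 le_sup_left).le
  have h2 : (S : Subgroup H) ⊓ K = pCoreOf p P ⊓ K := by
    apply le_antisymm
    · intro x hx
      refine h.cent_DK hK ⟨⟨h.SP hx.1, hx.2⟩, mem_centralizer_iff.2 fun y hy => hab y ⟨hDS hy.1, hy.2⟩ x hx⟩
    · exact inf_le_inf_right K hDS
  refine h.not_both hK hp ?_ ?_
  · rw [h1]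
    refine le_trans ?_ (norm_inf_le _ _)
    exact le_inf h.CQn (le_top.trans (normalizer_eq_top_iff.2 hK).ge)
  · rw [h2]
    refine le_trans ?_ (norm_inf_le _ _)
    exact le_inf (le_norm_pCoreOf p P) (le_top.trans (normalizer_eq_top_iff.2 hK).ge)

/-- **G2.** `S ∩ K` is not a TI subgroup of `H` -/
theorem not_TI (hK : K.Normal) (hp : p ∣ Nat.card K)
    (hTI : ∀ g : H, (S : Subgroup H) ⊓ K ⊓ cj g ((S : Subgroup H) ⊓ K) ≠ ⊥ →
      cj g ((S : Subgroup H) ⊓ K) = (S : Subgroup H) ⊓ K) : False := by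
  have key : ∀ A : Subgroup H, A ≤ (S : Subgroup H) ⊓ K → A ≠ ⊥ →
      normalizer (A : Set H) ≤ normalizer (((S : Subgroup H) ⊓ K : Subgroup H) : Set H) := by
    intro A hA hne g hg
    have h1 : cj g A = A := mem_norm.1 hg
    have h2 : A ≤ (S : Subgroup H) ⊓ K ⊓ cj g ((S : Subgroup H) ⊓ K) := le_inf hA (by
      rw [← h1]
      exact cj_mono hA)
    exact mem_norm.2 (hTI g fun h0 => hne (le_bot_iff.1 (h0 ▸ h2)))
  refine h.not_both hK hp ?_ ?_
  · exact (h.C_norm_W₁ hK).trans (key _ (inf_le_inf_right K (h.WQ.trans h.QS)) (h.W₁_ne hK hp))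
  · exact (h.P_norm_V₁ hK).trans (key _ (inf_le_inf_right K (h.VQ.trans h.QS)) (h.V₁_ne hK hp))

/-- the centralizer of an element `z ≠ 1` of `Z₁` lies in `C`, normalizes `W₁` and contains it -/
theorem centralizer_le_norm_W₁ (hK : K.Normal) {z : H}
    (hz : z ∈ omegaOne p ((S : Subgroup H) ⊓ centralizer ((S : Subgroup H) : Set H))) (hz1 : z ≠ 1) :
    centralizer ({z} : Set H) ≤ normalizer ((W ⊓ K : Subgroup H) : Set H) ∧ W ⊓ K ≤ centralizer ({z} : Set H) := by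
  constructor
  · exact (h.Quniq z ⟨h.ZQ hz, h.ZCQ hz⟩ hz1).trans (h.C_norm_W₁ hK)
  · intro w hw
    rw [mem_centralizer_singleton_iff]
    exact mem_centralizer_iff.1 (h.ZCQ hz) w (h.WQ hw.1)

/-- **G4.** `C` is not irreducible on `W₁` -/
theorem not_irr (hK : K.Normal) (hp : p ∣ Nat.card K)
    (hirr : ∀ A : Subgroup H, A ≤ W ⊓ K → A ≠ ⊥ → C ≤ normalizer (A : Set H) → A = W ⊓ K) : False := by
  have hn : C ≤ normalizer (((W ⊓ K) ⊓ centralizer (Q : Set H) : Subgroup H) : Set H) := by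
    refine le_trans ?_ (norm_inf_le _ _)
    exact le_inf (h.C_norm_W₁ hK) (h.CQn.trans (norm_le_norm_centralizer _))
  have hne : (W ⊓ K) ⊓ centralizer (Q : Set H) ≠ ⊥ := by
    intro h0
    refine h.Z₁_ne hK hp (le_bot_iff.1 ?_)
    rw [← h0]
    exact le_inf (inf_le_inf_right K (h.ZV.trans h.VW)) (inf_le_left.trans h.ZCQ)
  have h1 := hirr _ inf_le_left hne hn
  refine h.V₁_not_le hK hp ((inf_le_inf_right K h.VW).trans ?_)
  rw [← h1]
  exact inf_le_right

end CaseB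

end Cfsg.Agent.H271.PU
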